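import Mathlib
import Groth.Agent.VarDim.Algebra

/-!
# Auxiliary algebra for translates by `t^N g`
-/

set_option autoImplicit false

universe u v w

namespace Groth.Agent.MovTw

open MvPolynomial

/-- An element of a nontrivial finitely generated algebra of dimension `< r` : any `r`-tuple in a
finite extension of it satisfies a polynomial relation. -/
theorem exists_relation {k C C' : Type u} [Field k] [CommRing C] [Algebra k C] [Algebra.FiniteType k C]
    [CommRing C'] [Algebra k C'] [Algebra C C'] [IsScalarTower k C C'] [Module.Finite C C']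
    [Algebra.FiniteType k C'] {r : ℕ} (hdim : ringKrullDim C < r) (θ : Fin r → C') :
    ∃ h : MvPolynomial (Fin r) k, h ≠ 0 ∧ aeval θ h = 0 := by
  by_contra hne
  push Not at hne
  have hinj : Function.Injective (aeval θ : MvPolynomial (Fin r) k →ₐ[k] C') :=
    (injective_iff_map_eq_zero _).mpr fun h hh => by
      by_contra h0
      exact hne h h0 hh
  obtain ⟨Q, hQ, hQ0⟩ := Ideal.exists_comap_eq_of_mem_minimalPrimes_of_injective
    (f := (aeval θ : MvPolynomial (Fin r) k →ₐ[k] C').toRingHom) hinj ⊥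
    (show (⊥ : Ideal (MvPolynomial (Fin r) k)) ∈ minimalPrimes (MvPolynomial (Fin r) k) by
      rw [IsDomain.minimalPrimes_eq_singleton_bot]; rfl)
  haveI : Q.IsPrime := hQ
  let q : Ideal C := Q.comap (algebraMap C C')
  haveI : q.IsPrime := Ideal.comap_isPrime _ _
  letI : Algebra (C ⧸ q) (C' ⧸ Q) := Ideal.Quotient.algebraQuotientOfLEComap le_rfl
  haveI : IsScalarTower C (C ⧸ q) (C' ⧸ Q) := IsScalarTower.of_algebraMap_eq fun x => rfl
  haveI : Module.Finite C (C' ⧸ Q) :=
    Module.Finite.of_surjective (Submodule.mkQ (Q.restrictScalars C)) (Submodule.mkQ_surjective _)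
  haveI : Module.Finite (C ⧸ q) (C' ⧸ Q) := Module.Finite.of_restrictScalars_finite C _ _
  haveI : FaithfulSMul (C ⧸ q) (C' ⧸ Q) :=
    (faithfulSMul_iff_algebraMap_injective _ _).mpr Ideal.algebraMap_quotient_injective
  haveI : Algebra.FiniteType k (C' ⧸ Q) := VarDim.finiteType_quotient k C' Q
  have h1 : ringKrullDim (C' ⧸ Q) = ringKrullDim (C ⧸ q) :=
    VarDim.ringKrullDim_eq_of_isIntegral (R := C ⧸ q) (S := C' ⧸ Q)
  obtain ⟨n, hn, htr, -⟩ := VarDim.exists_ringKrullDim_eq_trdeg k (C' ⧸ Q)
  have h2 : AlgebraicIndependent k (fun i => Ideal.Quotient.mkₐ k Q (θ i)) := by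
    rw [algebraicIndependent_iff]
    intro p hp
    have hp' : aeval θ p ∈ Q := by
      rw [← Ideal.Quotient.eq_zero_iff_mem]
      rw [← comp_aeval_apply] at hp
      exact hp
    have : p ∈ Q.comap (aeval θ : MvPolynomial (Fin r) k →ₐ[k] C').toRingHom := hp'
    rw [hQ0] at this
    simpa using this
  have h3 := h2.lift_cardinalMk_le_trdeg
  rw [htr] at h3
  have h4 : r ≤ n := by simpa using h3
  have h5 : ((n : ℕ) : WithBot ℕ∞) < r := by
    rw [← hn, h1]
    exact lt_of_le_of_lt (ringKrullDim_quotient_le q) hdim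
  exact absurd h4 (not_le.mpr (by exact_mod_cast h5))

end Groth.Agent.MovTw
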